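import Groth.Agent.NormalizationAffine.Basic
import Groth.Prelude.Def_Pi1

set_option autoImplicit false
set_option linter.style.haveILetI false

/-!
# Universal property of the normalization with respect to normal schemes
-/

namespace Groth.Agent.NormUniv

universe u

open CategoryTheory CategoryTheory.Limits AlgebraicGeometry Opposite TopologicalSpace
open Groth.Agent.NormalizationAffine

variable {X : Scheme.{u}} [IsIntegral X]
variable {Z : Scheme.{u}} (g : Z ⟶ X)

theorem isReduced_of_normal (hZ : Pi1.IsNormalScheme Z) : IsReduced Z := by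
  haveI : ∀ z : Z, _root_.IsReduced (Z.presheaf.stalk z) := fun z => by
    haveI := (hZ z).1
    infer_instance
  exact isReduced_of_isReduced_stalk Z

theorem normal_openImmersion {Z' : Scheme.{u}} (j : Z' ⟶ Z) [IsOpenImmersion j]
    (hZ : Pi1.IsNormalScheme Z) : Pi1.IsNormalScheme Z' := fun x => by
  let e := (asIso (j.stalkMap x)).commRingCatIsoToRingEquiv
  haveI := (hZ (j x)).1
  haveI := (hZ (j x)).2
  exact ⟨e.symm.toMulEquiv.isDomain, IsIntegrallyClosed.of_equiv e⟩

/-- Multiplication by the pullback of a nonzero function is injective. -/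
theorem appLE_mul_cancel [IsReduced Z] (hg : Dense (g.base ⁻¹' {genericPoint X}))
    {U : X.Opens} {V : Z.Opens} (e : V ≤ g ⁻¹ᵁ U) {b : Γ(X, U)} (hb : b ≠ 0)
    {r : Γ(Z, V)} (hr : g.appLE U V e b * r = 0) : r = 0 := by
  by_contra hr0
  have hne : Z.basicOpen r ≠ ⊥ := fun h => hr0 (eq_zero_of_basicOpen_eq_bot r h)
  have hne' : (Z.basicOpen r : Set Z).Nonempty := by
    rw [Set.nonempty_iff_ne_empty]
    intro h
    exact hne (Opens.ext h)
  obtain ⟨z, hz, hzg⟩ := hg.inter_open_nonempty _ (Z.basicOpen r).isOpen hne'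
  have hzg' : g z = genericPoint X := hzg
  have hXb : (X.basicOpen b : Set X).Nonempty := by
    rw [Set.nonempty_iff_ne_empty]
    intro h
    exact hb (eq_zero_of_basicOpen_eq_bot b (Opens.ext h))
  have hη : genericPoint X ∈ X.basicOpen b :=
    ((genericPoint_spec X).mem_open_set_iff (X.basicOpen b).isOpen).mpr (by simpa using hXb)
  have hzb : z ∈ Z.basicOpen (g.appLE U V e b) := by
    rw [Scheme.basicOpen_appLE]
    exact ⟨Z.basicOpen_le r hz, show g z ∈ X.basicOpen b by rw [hzg']; exact hη⟩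
  have : z ∈ Z.basicOpen (g.appLE U V e b * r) := by
    rw [Scheme.basicOpen_mul]
    exact ⟨hzb, hz⟩
  rw [hr, Scheme.basicOpen_zero] at this
  exact this

/-- A function on an affine open of a normal scheme which becomes a multiple of `b` at every stalk in
the fraction field is divisible by `b`. -/
theorem exists_mul_eq (hZ : Pi1.IsNormalScheme Z) (hg : Dense (g.base ⁻¹' {genericPoint X}))
    {U : X.Opens} [Nonempty U] (hU : IsAffineOpen U) {V : Z.Opens} (hV : IsAffineOpen V)
    (e : V ≤ g ⁻¹ᵁ U) {a b : Γ(X, U)} (hb : b ≠ 0)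
    (hint : IsIntegral Γ(X, U) (algebraMap Γ(X, U) X.functionField a / algebraMap Γ(X, U) X.functionField b)) :
    ∃ r : Γ(Z, V), g.appLE U V e b * r = g.appLE U V e a := by
  haveI := isReduced_of_normal hZ
  haveI := functionField_isFractionRing_of_isAffineOpen X U hU
  rw [← exists_congr (fun r => eq_comm)]
  change g.appLE U V e b ∣ g.appLE U V e a
  rw [← Ideal.mem_span_singleton]
  apply Submodule.mem_of_localization_maximal (R := Γ(Z, V))
    (fun P _ => Localization.AtPrime P) (fun P _ => Algebra.linearMap _ _)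
  intro P hP
  obtain ⟨x, hx⟩ : ∃ x : V, hV.primeIdealOf x = ⟨P, hP.isPrime⟩ := by
    refine ⟨⟨hV.fromSpec ⟨P, hP.isPrime⟩, ?_⟩, ?_⟩
    · exact hV.range_fromSpec.subset ⟨_, rfl⟩
    · apply hV.fromSpec.isOpenEmbedding.injective
      rw [hV.fromSpec_primeIdealOf]
  have hP' : P = (hV.primeIdealOf x).asIdeal := by rw [hx]
  subst hP'
  letI : Algebra Γ(Z, V) (Z.presheaf.stalk x.1) := (Z.presheaf.germ V x.1 x.2).hom.toAlgebra
  haveI : IsLocalization.AtPrime (Z.presheaf.stalk x.1) (hV.primeIdealOf x).asIdeal :=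
    hV.isLocalization_stalk x
  obtain ⟨hd, hc⟩ := hZ x.1
  letI ψA : Γ(X, U) →+* Z.presheaf.stalk x.1 :=
    (algebraMap Γ(Z, V) (Z.presheaf.stalk x.1)).comp (g.appLE U V e).hom
  have hψ : Function.Injective ψA := by
    rw [injective_iff_map_eq_zero]
    intro c hc0
    by_contra hcne
    obtain ⟨⟨m, hm⟩, hmc⟩ := (IsLocalization.map_eq_zero_iff
      (hV.primeIdealOf x).asIdeal.primeCompl (Z.presheaf.stalk x.1) _).mp hc0
    have : m = 0 := appLE_mul_cancel g hg e hcne (by rw [mul_comm]; exact hmc)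
    exact hm (this ▸ Ideal.zero_mem _)
  letI : Algebra Γ(X, U) (Z.presheaf.stalk x.1) := ψA.toAlgebra
  let L := FractionRing (Z.presheaf.stalk x.1)
  have hψL : Function.Injective (algebraMap Γ(X, U) L) := by
    rw [IsScalarTower.algebraMap_eq Γ(X, U) (Z.presheaf.stalk x.1) L]
    exact (IsFractionRing.injective (Z.presheaf.stalk x.1) L).comp hψ
  let φ : X.functionField →ₐ[Γ(X, U)] L :=
    { IsFractionRing.lift hψL with
      commutes' := fun c => IsFractionRing.lift_algebraMap hψL c }
  have h1 : IsIntegral (Z.presheaf.stalk x.1)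
      (φ (algebraMap Γ(X, U) X.functionField a / algebraMap Γ(X, U) X.functionField b)) :=
    (hint.map φ).tower_top
  obtain ⟨r, hr⟩ := (IsIntegrallyClosed.isIntegral_iff).mp h1
  have hbne : algebraMap Γ(X, U) L b ≠ 0 := fun h => hb (hψL (by rw [h, map_zero]))
  have h2 : ψA b * r = ψA a := by
    apply IsFractionRing.injective (Z.presheaf.stalk x.1) L
    rw [map_mul, hr, map_div₀, AlgHom.commutes, AlgHom.commutes]
    rw [show algebraMap (Z.presheaf.stalk x.1) L (ψA b) = algebraMap Γ(X, U) L b from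
      (IsScalarTower.algebraMap_apply Γ(X, U) _ L b).symm]
    rw [show algebraMap (Z.presheaf.stalk x.1) L (ψA a) = algebraMap Γ(X, U) L a from
      (IsScalarTower.algebraMap_apply Γ(X, U) _ L a).symm]
    exact mul_div_cancel₀ _ hbne
  obtain ⟨⟨r', m⟩, hr'⟩ := IsLocalization.surj (hV.primeIdealOf x).asIdeal.primeCompl r
  have h3 : algebraMap Γ(Z, V) (Z.presheaf.stalk x.1) (g.appLE U V e b * r') =
      algebraMap Γ(Z, V) (Z.presheaf.stalk x.1) (m.1 * g.appLE U V e a) := by
    rw [map_mul, map_mul, ← hr']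
    change ψA b * (r * algebraMap _ _ m.1) = _ * ψA a
    rw [← mul_assoc, h2, mul_comm]
  obtain ⟨c, hc3⟩ := (IsLocalization.eq_iff_exists (hV.primeIdealOf x).asIdeal.primeCompl
    (Z.presheaf.stalk x.1)).mp h3
  rw [Submodule.localized₀]
  refine ⟨c.1 * (m.1 * g.appLE U V e a), ?_, c * m, ?_⟩
  · rw [← hc3]
    exact Ideal.mem_span_singleton.mpr ⟨c.1 * r', by ring⟩
  · rw [IsLocalizedModule.mk'_eq_iff]
    simp [Submonoid.smul_def, Algebra.smul_def, mul_assoc]

end Groth.Agent.NormUniv
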