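import Groth.Agent.NormUniv.Fac
import Groth.Agent.NagataLib.Scheme
import Groth.Agent.GeomIrr.Glue

set_option autoImplicit false
set_option linter.style.haveILetI false

/-!
# Characterisation of the normalization of an integral scheme
-/

namespace Groth.Agent.NormUniv

universe u

open CategoryTheory CategoryTheory.Limits AlgebraicGeometry Opposite TopologicalSpace
open Groth.Agent.NormalizationAffine

variable (X : Scheme.{u}) [IsIntegral X]

theorem generic_hyp : X.fromSpecStalk (genericPoint X) =
    Spec.map (CommRingCat.ofHom (RingHom.id X.functionField)) ≫ X.fromSpecStalk (genericPoint X) := by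
  rw [CommRingCat.ofHom_id, Spec.map_id, Category.id_comp]

variable [QuasiCompact (X.fromSpecStalk (genericPoint X))] [QuasiSeparated (X.fromSpecStalk (genericPoint X))]

theorem isNormal_normalization : Pi1.IsNormalScheme (Curv2.normalization X) :=
  Groth.Agent.NagataLib.isNormalScheme_normalization _ _ (generic_hyp X)

instance isIntegral_normalization : IsIntegral (Curv2.normalization X) :=
  (inferInstance : IsIntegral (X.fromSpecStalk (genericPoint X)).normalization)

instance isIntegralHom_normalizationι : IsIntegralHom (Curv2.normalizationι X) :=
  (inferInstance : IsIntegralHom (X.fromSpecStalk (genericPoint X)).fromNormalization)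

theorem fromSpecStalk_apply_eq (z : Spec X.functionField) :
    X.fromSpecStalk (genericPoint X) z = genericPoint X := by
  haveI : Subsingleton (Spec X.functionField) := inferInstanceAs (Subsingleton (PrimeSpectrum X.functionField))
  rw [Subsingleton.elim z (IsLocalRing.closedPoint _)]
  exact Scheme.fromSpecStalk_closedPoint

theorem ι_genericPoint : Curv2.normalizationι X (genericPoint (Curv2.normalization X)) = genericPoint X := by
  haveI : Surjective (Curv2.normalizationι X) :=
    Groth.Agent.NagataLib.surjective_fromNormalization _ _ (generic_hyp X)
  obtain ⟨z, hz⟩ := (Curv2.normalizationι X).surjective (genericPoint X)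
  have h : Curv2.normalizationι X (genericPoint (Curv2.normalization X)) ⤳ genericPoint X := by
    rw [← hz]
    exact ((genericPoint_spec (Curv2.normalization X)).specializes trivial).map
      (Curv2.normalizationι X).base.hom.continuous
  exact (h.antisymm ((genericPoint_spec X).specializes trivial)).eq

theorem toNormalization_apply (z : Spec X.functionField) :
    (X.fromSpecStalk (genericPoint X)).toNormalization z = genericPoint (Curv2.normalization X) := by
  refine (GeomIrr.eq_of_specializes_of_isIntegralHom (Curv2.normalizationι X) (a := genericPoint (Curv2.normalization X))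
    ((genericPoint_spec _).specializes trivial) ?_).symm
  refine (ι_genericPoint X).trans ?_
  have h := congrArg (fun φ => φ z) (X.fromSpecStalk (genericPoint X)).toNormalization_fromNormalization
  exact (fromSpecStalk_apply_eq X z).symm.trans h.symm

theorem preimage_genericPoint_normalization :
    (Curv2.normalizationι X).base ⁻¹' {genericPoint X} = {genericPoint (Curv2.normalization X)} := by
  ext z
  refine ⟨fun hz => ?_, fun hz => ?_⟩
  · exact (GeomIrr.eq_of_specializes_of_isIntegralHom (Curv2.normalizationι X)
      ((genericPoint_spec _).specializes trivial) ((ι_genericPoint X).trans (hz : _ = genericPoint X).symm)).symm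
  · rw [Set.mem_singleton_iff] at hz
    subst hz
    exact ι_genericPoint X

theorem injective_of_isField {R S : Type u} [CommRing R] [CommRing S] [Nontrivial S] (h : IsField R)
    (φ : R →+* S) : Function.Injective φ := by
  rw [injective_iff_map_eq_zero]
  intro a ha
  by_contra hne
  obtain ⟨b, hb⟩ := h.mul_inv_cancel hne
  have := congrArg φ hb
  rw [map_mul, ha, zero_mul, map_one] at this
  exact zero_ne_one this

theorem isIso_stalkMap_normalizationι :
    IsIso ((Curv2.normalizationι X).stalkMap (genericPoint (Curv2.normalization X))) := by
  let z : Spec X.functionField := IsLocalRing.closedPoint _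
  have hz := toNormalization_apply X z
  rw [← hz]
  rw [ConcreteCategory.isIso_iff_bijective]
  set q := (X.fromSpecStalk (genericPoint X)).toNormalization
  have hsurj : Function.Surjective ((q ≫ Curv2.normalizationι X).stalkMap z) := by
    rw [Scheme.Hom.stalkMap_congr_hom (q ≫ Curv2.normalizationι X) (X.fromSpecStalk (genericPoint X))
      (Scheme.Hom.toNormalization_fromNormalization _)]
    exact ((X.fromSpecStalk (genericPoint X)).stalkMap_surjective z).comp
      (ConcreteCategory.bijective_of_isIso _).2
  rw [Scheme.Hom.stalkMap_comp] at hsurj
  have h2 : Function.Injective (q.stalkMap z) := by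
    have : IsField ((Curv2.normalization X).presheaf.stalk (q z)) := by
      rw [hz]
      exact Field.toIsField (Curv2.normalization X).functionField
    exact injective_of_isField this (q.stalkMap z).hom
  refine ⟨?_, fun a => ?_⟩
  · have : IsField (X.presheaf.stalk (Curv2.normalizationι X (q z))) := by
      rw [hz, ι_genericPoint]
      exact Field.toIsField X.functionField
    exact injective_of_isField this ((Curv2.normalizationι X).stalkMap (q z)).hom
  · obtain ⟨b, hb⟩ := hsurj (q.stalkMap z a)
    exact ⟨b, h2 hb⟩

/-- A normal integral scheme, integral and birational over `X`, is the normalization. -/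
theorem exists_iso {Y : Scheme.{u}} (f : Y ⟶ X) (hY : Pi1.IsNormalScheme Y) [IsIntegralHom f]
    [IrreducibleSpace ↥Y] (hfib : f.base ⁻¹' {genericPoint X} = {genericPoint Y})
    (hiso : IsIso (f.stalkMap (genericPoint Y))) :
    ∃ e : Y ≅ Curv2.normalization X, e.hom ≫ Curv2.normalizationι X = f := by
  haveI := isReduced_of_normal hY
  haveI : IsIntegral Y := isIntegral_of_irreducibleSpace_of_isReduced Y
  have hfη : f (genericPoint Y) = genericPoint X := by
    have : genericPoint Y ∈ f.base ⁻¹' {genericPoint X} := by rw [hfib]; rfl
    exact this
  have hdY : Dense (f.base ⁻¹' {genericPoint X}) := by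
    rw [hfib, dense_iff_closure_eq]
    exact (genericPoint_spec Y)
  have hdN : Dense ((Curv2.normalizationι X).base ⁻¹' {genericPoint X}) := by
    rw [preimage_genericPoint_normalization, dense_iff_closure_eq]
    exact (genericPoint_spec _)
  obtain ⟨h, hh, -⟩ := existsUnique_fac f hY hdY
  let φ : Spec X.functionField ⟶ Y :=
    inv (Spec.map ((X.presheaf.stalkCongr (.of_eq hfη.symm)).hom ≫ f.stalkMap (genericPoint Y))) ≫
      Y.fromSpecStalk (genericPoint Y)
  have hφ : φ ≫ f = X.fromSpecStalk (genericPoint X) := by
    simp only [φ, Category.assoc]
    rw [IsIso.inv_comp_eq, ← Scheme.SpecMap_stalkMap_fromSpecStalk, Spec.map_comp, Category.assoc]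
    congr 1
    exact (Scheme.SpecMap_stalkSpecializes_fromSpecStalk (specializes_of_eq hfη)).symm
  let g : Curv2.normalization X ⟶ Y :=
    (X.fromSpecStalk (genericPoint X)).normalizationDesc φ f hφ.symm
  have hg : g ≫ f = Curv2.normalizationι X := Scheme.Hom.normalizationDesc_comp _ _ _ _
  have hqg : (X.fromSpecStalk (genericPoint X)).toNormalization ≫ g = φ :=
    Scheme.Hom.toNormalization_normalizationDesc _ _ _ _
  refine ⟨⟨h, g, ?_, ?_⟩, hh⟩
  · haveI : IsDominant (Y.fromSpecStalk (genericPoint Y)) := ⟨by
      rw [DenseRange, dense_iff_closure_eq, Set.eq_univ_iff_forall]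
      intro y
      refine closure_mono (s := {genericPoint Y}) ?_ ((genericPoint_spec Y).symm ▸ trivial)
      rintro _ rfl
      exact ⟨IsLocalRing.closedPoint _, Scheme.fromSpecStalk_closedPoint⟩⟩
    haveI : IsReduced (Spec (Y.presheaf.stalk (genericPoint Y))) := inferInstance
    refine ext_of_isDominant_of_isSeparated f (by rw [Category.assoc, hg, hh, Category.id_comp])
      (Y.fromSpecStalk (genericPoint Y)) ?_
    set u := Spec.map ((X.presheaf.stalkCongr (.of_eq hfη.symm)).hom ≫ f.stalkMap (genericPoint Y)) with hu
    have key : Y.fromSpecStalk (genericPoint Y) ≫ h =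
        u ≫ (X.fromSpecStalk (genericPoint X)).toNormalization := by
      refine ext_of_dense (Y.fromSpecStalk (genericPoint Y) ≫ f) ?_ (by rw [Category.assoc, hh]) ?_
      · refine dense_univ.mono fun z _ => ?_
        haveI : Subsingleton (Spec Y.functionField) :=
          inferInstanceAs (Subsingleton (PrimeSpectrum Y.functionField))
        show f (Y.fromSpecStalk (genericPoint Y) z) = genericPoint X
        rw [show z = IsLocalRing.closedPoint (Y.presheaf.stalk (genericPoint Y)) from
          Subsingleton.elim (α := Spec Y.functionField) _ _, Scheme.fromSpecStalk_closedPoint, hfη]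
      · refine ((Category.assoc _ _ _).trans (congrArg (u ≫ ·) (Scheme.Hom.toNormalization_fromNormalization _))).trans ?_
        show u ≫ X.fromSpecStalk (genericPoint X) = _
        rw [← hφ]
        simp [φ, u]
    refine (Category.assoc _ _ _).symm.trans ((congrArg (· ≫ g) key).trans
      (((Category.assoc _ _ _).trans (congrArg (u ≫ ·) hqg)).trans ?_))
    rw [Category.comp_id]
    simp [φ, u]
  · exact ext_of_dense (Curv2.normalizationι X) hdN (by rw [Category.assoc, hh, hg]) (Category.id_comp _)

end Groth.Agent.NormUniv
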