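import Groth.Agent.NormUniv.Char

set_option autoImplicit false
set_option linter.style.haveILetI false

/-!
# Properties of a scheme isomorphic to the normalization
-/

namespace Groth.Agent.NormUniv

universe u

open CategoryTheory CategoryTheory.Limits AlgebraicGeometry Opposite TopologicalSpace
open Groth.Agent.NormalizationAffine

variable (X : Scheme.{u}) [IsIntegral X]
variable [QuasiCompact (X.fromSpecStalk (genericPoint X))] [QuasiSeparated (X.fromSpecStalk (genericPoint X))]

theorem props_of_iso {Y : Scheme.{u}} (f : Y ⟶ X) (e : Y ≅ Curv2.normalization X)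
    (he : e.hom ≫ Curv2.normalizationι X = f) :
    Pi1.IsNormalScheme Y ∧ IsIntegralHom f ∧
      ∃ _ : IrreducibleSpace ↥Y, f.base ⁻¹' {genericPoint X} = {genericPoint Y} ∧
        IsIso (f.stalkMap (genericPoint Y)) := by
  subst he
  haveI : Nonempty ↥Y := ⟨e.inv (genericPoint _)⟩
  haveI : IsIntegral Y := isIntegral_of_isOpenImmersion e.hom
  have hgen : e.hom (genericPoint Y) = genericPoint (Curv2.normalization X) :=
    genericPoint_eq_of_isOpenImmersion e.hom
  refine ⟨normal_openImmersion e.hom (isNormal_normalization X), inferInstance, inferInstance, ?_, ?_⟩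
  · ext y
    change Curv2.normalizationι X (e.hom y) = genericPoint X ↔ y = genericPoint Y
    have h := preimage_genericPoint_normalization X
    rw [Set.ext_iff] at h
    refine (h (e.hom y)).trans ⟨fun hy => ?_, fun hy => ?_⟩
    · exact e.hom.isOpenEmbedding.injective ((hy : _ = _).trans hgen.symm)
    · rw [hy]; exact hgen
  · rw [Scheme.Hom.stalkMap_comp]
    have h1 : IsIso ((Curv2.normalizationι X).stalkMap (e.hom (genericPoint Y))) := by
      rw [hgen]; exact isIso_stalkMap_normalizationι X
    exact @IsIso.comp_isIso _ _ _ _ _ _ _ h1 inferInstance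

/-- The normalization is an isomorphism over a nonempty open with integrally closed local rings. -/
theorem exists_dense_isIso_of_normal
    (hV : ∃ V : X.Opens, (V : Set ↥X).Nonempty ∧ ∀ x ∈ V, IsIntegrallyClosed (X.presheaf.stalk x)) :
    ∃ U : X.Opens, (U : Set X).Nonempty ∧ IsIso (Curv2.normalizationι X ∣_ U) := by
  obtain ⟨V, ⟨x, hx⟩, hint⟩ := hV
  obtain ⟨U, hU, hxU, hUV⟩ := exists_isAffineOpen_mem_and_subset hx
  haveI : Nonempty U := ⟨⟨x, hxU⟩⟩
  refine ⟨U, ⟨x, hxU⟩, ?_⟩
  haveI : IsIntegrallyClosed Γ(X, U) := by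
    refine IsIntegrallyClosed.of_localization_maximal fun p _ hp => ?_
    let y : PrimeSpectrum Γ(X, U) := ⟨p, hp.isPrime⟩
    have hy : hU.fromSpec y ∈ U := hU.range_fromSpec.le ⟨y, rfl⟩
    letI := TopCat.Presheaf.algebra_section_stalk X.presheaf (⟨hU.fromSpec y, hy⟩ : U)
    haveI : IsLocalization.AtPrime (X.presheaf.stalk (hU.fromSpec y)) p := hU.isLocalization_stalk' y hy
    haveI := hint _ (hUV hy)
    exact IsIntegrallyClosed.of_equiv
      (IsLocalization.algEquiv p.primeCompl (X.presheaf.stalk (hU.fromSpec y)) (Localization.AtPrime p)).toRingEquiv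
  haveI := functionField_isFractionRing_of_isAffineOpen X U hU
  haveI := isIntegralClosure_sect hU
  rw [isIso_morphismRestrict_iff_isIso_app (Curv2.normalizationι X) hU, ConcreteCategory.isIso_iff_bijective]
  refine ⟨fun a b h => ?_, fun s => ?_⟩
  · apply X.germToFunctionField_injective U
    have := congrArg (toK U) h
    erw [toK_algebraMap, toK_algebraMap] at this
    exact this
  · obtain ⟨a, ha⟩ := IsIntegrallyClosed.isIntegral_iff.mp
      ((isIntegralClosure_sect hU).isIntegral_iff.mpr ⟨s, rfl⟩ : _root_.IsIntegral Γ(X, U) (toK U s))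
    exact ⟨a, toK_injective hU ((toK_algebraMap U a).trans ha)⟩

end Groth.Agent.NormUniv
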