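import Groth.Agent.NormUniv.Basic

set_option autoImplicit false
set_option linter.style.haveILetI false

/-!
# Factoring a morphism from a normal scheme through the normalization
-/

namespace Groth.Agent.NormUniv

universe u

open CategoryTheory CategoryTheory.Limits AlgebraicGeometry Opposite TopologicalSpace
open Groth.Agent.NormalizationAffine

variable {X : Scheme.{u}} [IsIntegral X]
  [QuasiCompact (X.fromSpecStalk (genericPoint X))] [QuasiSeparated (X.fromSpecStalk (genericPoint X))]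
variable {Z : Scheme.{u}} (g : Z ⟶ X)

omit [IsIntegral X] [QuasiCompact (X.fromSpecStalk (genericPoint X))]
  [QuasiSeparated (X.fromSpecStalk (genericPoint X))] in
theorem exists_nbhd (z : Z) :
    ∃ (U : X.Opens) (V : Z.Opens), IsAffineOpen U ∧ IsAffineOpen V ∧ z ∈ V ∧ V ≤ g ⁻¹ᵁ U := by
  obtain ⟨U, hU, hzU, -⟩ := exists_isAffineOpen_mem_and_subset (X := X) (x := g z) (U := ⊤) trivial
  obtain ⟨V, hV, hzV, hVU⟩ := exists_isAffineOpen_mem_and_subset (X := Z) (x := z) (U := g ⁻¹ᵁ U) hzU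
  exact ⟨U, V, hU, hV, hzV, hVU⟩

theorem exists_fraction {U : X.Opens} [Nonempty U] (hU : IsAffineOpen U) (s : Sect U) :
    ∃ a b : Γ(X, U), b ≠ 0 ∧
      toK U s = algebraMap Γ(X, U) X.functionField a / algebraMap Γ(X, U) X.functionField b := by
  haveI := functionField_isFractionRing_of_isAffineOpen X U hU
  obtain ⟨a, b, hb, h⟩ := IsFractionRing.div_surjective Γ(X, U) (toK U s)
  exact ⟨a, b, nonZeroDivisors.ne_zero hb, h.symm⟩

theorem toK_injective {U : X.Opens} [Nonempty U] (hU : IsAffineOpen U) :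
    Function.Injective (toK U) :=
  (isIntegralClosure_sect hU).algebraMap_injective

theorem algebraMap_ff_injective {U : X.Opens} [Nonempty U] (hU : IsAffineOpen U) :
    Function.Injective (algebraMap Γ(X, U) X.functionField) := by
  haveI := functionField_isFractionRing_of_isAffineOpen X U hU
  exact IsFractionRing.injective _ _

/-- The affine piece of the factorisation. -/
theorem exists_ringHom (hZ : Pi1.IsNormalScheme Z) (hg : Dense (g.base ⁻¹' {genericPoint X}))
    {U : X.Opens} [Nonempty U] (hU : IsAffineOpen U) {V : Z.Opens} (hV : IsAffineOpen V)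
    (e : V ≤ g ⁻¹ᵁ U) :
    ∃ ψ : Γ(Curv2.normalization X, (Curv2.normalizationι X) ⁻¹ᵁ U) ⟶ Γ(Z, V),
      (Curv2.normalizationι X).app U ≫ ψ = g.appLE U V e := by
  haveI := isReduced_of_normal hZ
  let K := X.functionField
  let α : Γ(X, U) →+* Γ(Z, V) := (g.appLE U V e).hom
  have hint : ∀ (s : Sect U), _root_.IsIntegral Γ(X, U) (toK U s) := fun s =>
    (isIntegralClosure_sect hU).isIntegral_iff.mpr ⟨s, rfl⟩
  have hcancel : ∀ {b : Γ(X, U)}, b ≠ 0 → ∀ {r r' : Γ(Z, V)}, α b * r = α b * r' → r = r' := by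
    intro b hb r r' h
    rw [← sub_eq_zero]
    exact appLE_mul_cancel g hg e hb (show α b * (r - r') = 0 by rw [mul_sub, h, sub_self])
  have hP : ∀ s : Sect U, ∃ r : Γ(Z, V), ∀ a b : Γ(X, U), b ≠ 0 →
      toK U s = algebraMap Γ(X, U) K a / algebraMap Γ(X, U) K b → α b * r = α a := by
    intro s
    obtain ⟨a, b, hb, hs⟩ := exists_fraction hU s
    obtain ⟨r, hr⟩ := exists_mul_eq g hZ hg hU hV e hb (hs ▸ hint s)
    refine ⟨r, fun a' b' hb' hs' => hcancel hb ?_⟩
    have hne : ∀ {c : Γ(X, U)}, c ≠ 0 → algebraMap Γ(X, U) K c ≠ 0 := fun hc h =>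
      hc (algebraMap_ff_injective hU (by rw [h, map_zero]))
    have hab : a * b' = a' * b := algebraMap_ff_injective hU (by
      rw [map_mul, map_mul]
      exact (div_eq_div_iff (hne hb) (hne hb')).mp (hs.symm.trans hs'))
    have hr' : α b * r = α a := hr
    calc α b * (α b' * r) = α b' * (α b * r) := mul_left_comm _ _ _
      _ = α b * α a' := by rw [hr', ← map_mul, mul_comm b' a, hab, map_mul, mul_comm]
  choose ψ hψ using hP
  have hne : ∀ {c : Γ(X, U)}, c ≠ 0 → algebraMap Γ(X, U) K c ≠ 0 := fun hc h =>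
    hc (algebraMap_ff_injective hU (by rw [h, map_zero]))
  haveI hdom : IsDomain Γ(X, U) := inferInstance
  have halg : ∀ a : Γ(X, U), ψ ((Curv2.normalizationι X).app U a) = α a := by
    intro a
    have := hψ ((Curv2.normalizationι X).app U a) a 1 one_ne_zero
      ((toK_algebraMap U a).trans (by rw [map_one, div_one]))
    rwa [map_one, one_mul] at this
  have hadd : ∀ s t, ψ (s + t) = ψ s + ψ t := by
    intro s t
    obtain ⟨a, b, hb, hs⟩ := exists_fraction hU s
    obtain ⟨c, d, hd, ht⟩ := exists_fraction hU t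
    apply hcancel (mul_ne_zero hb hd)
    rw [hψ (s + t) (a * d + b * c) (b * d) (mul_ne_zero hb hd) (by
      rw [map_add, hs, ht, map_add, map_mul, map_mul, map_mul, div_add_div _ _ (hne hb) (hne hd)])]
    rw [map_add, map_mul, map_mul, map_mul, ← hψ s a b hb hs, ← hψ t c d hd ht]
    ring
  have hmul : ∀ s t, ψ (s * t) = ψ s * ψ t := by
    intro s t
    obtain ⟨a, b, hb, hs⟩ := exists_fraction hU s
    obtain ⟨c, d, hd, ht⟩ := exists_fraction hU t
    apply hcancel (mul_ne_zero hb hd)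
    rw [hψ (s * t) (a * c) (b * d) (mul_ne_zero hb hd) (by
      rw [map_mul, hs, ht, map_mul, map_mul, div_mul_div_comm])]
    rw [map_mul, map_mul, ← hψ s a b hb hs, ← hψ t c d hd ht]
    ring
  have h1 : ψ 1 = 1 := by
    have := halg 1
    rwa [map_one, map_one] at this
  have h0 : ψ 0 = 0 := by
    have := halg 0
    rwa [map_zero, map_zero] at this
  refine ⟨CommRingCat.ofHom { toFun := ψ, map_one' := h1, map_mul' := hmul, map_zero' := h0, map_add' := hadd }, ?_⟩
  ext a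
  exact halg a

theorem ringHom_ext [IsReduced Z] (hg : Dense (g.base ⁻¹' {genericPoint X}))
    {U : X.Opens} [Nonempty U] (hU : IsAffineOpen U) {V : Z.Opens} (e : V ≤ g ⁻¹ᵁ U)
    (φ₁ φ₂ : Sect U →+* Γ(Z, V))
    (h₁ : ∀ a, φ₁ (algebraMap Γ(X, U) (Sect U) a) = g.appLE U V e a)
    (h₂ : ∀ a, φ₂ (algebraMap Γ(X, U) (Sect U) a) = g.appLE U V e a) : φ₁ = φ₂ := by
  ext s
  obtain ⟨a, b, hb, hs⟩ := exists_fraction hU s
  have hbs : algebraMap Γ(X, U) (Sect U) b * s = algebraMap Γ(X, U) (Sect U) a := by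
    apply toK_injective hU
    rw [map_mul, toK_algebraMap, toK_algebraMap, hs]
    exact mul_div_cancel₀ _ fun h => hb (algebraMap_ff_injective hU (by rw [h, map_zero]))
  have t₁ : g.appLE U V e b * φ₁ s = g.appLE U V e a := by rw [← h₁, ← h₁, ← hbs, map_mul]
  have t₂ : g.appLE U V e b * φ₂ s = g.appLE U V e a := by rw [← h₂, ← h₂, ← hbs, map_mul]
  rw [← sub_eq_zero]
  refine appLE_mul_cancel g hg e hb ?_
  rw [mul_sub, t₁, t₂, sub_self]

/-- Two factorisations through the normalization agree. -/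
theorem ext_of_dense [IsReduced Z] (hg : Dense (g.base ⁻¹' {genericPoint X}))
    {h₁ h₂ : Z ⟶ Curv2.normalization X} (H₁ : h₁ ≫ Curv2.normalizationι X = g)
    (H₂ : h₂ ≫ Curv2.normalizationι X = g) : h₁ = h₂ := by
  choose U V hU hV hzV hVU using exists_nbhd g
  refine Scheme.Cover.hom_ext (Z.openCoverOfIsOpenCover V
    (TopologicalSpace.IsOpenCover.mk (eq_top_iff.mpr fun z _ => Opens.mem_iSup.mpr ⟨z, hzV z⟩))) _ _ fun (z : Z) => ?_
  change (V z).ι ≫ h₁ = (V z).ι ≫ h₂
  haveI : Nonempty (U z) := ⟨⟨g z, hVU z (hzV z)⟩⟩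
  have hWaff : IsAffineOpen ((Curv2.normalizationι X) ⁻¹ᵁ (U z)) := isAffineOpen_preimage (hU z)
  have e₁ : V z ≤ h₁ ⁻¹ᵁ ((Curv2.normalizationι X) ⁻¹ᵁ (U z)) := by
    rw [← Scheme.Hom.comp_preimage, H₁]; exact hVU z
  have e₂ : V z ≤ h₂ ⁻¹ᵁ ((Curv2.normalizationι X) ⁻¹ᵁ (U z)) := by
    rw [← Scheme.Hom.comp_preimage, H₂]; exact hVU z
  have c₁ : (Curv2.normalizationι X).app (U z) ≫ h₁.appLE _ (V z) e₁ = g.appLE (U z) (V z) (hVU z) := by
    subst H₁
    rw [Scheme.Hom.app_eq_appLE, Scheme.Hom.appLE_comp_appLE]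
  have c₂ : (Curv2.normalizationι X).app (U z) ≫ h₂.appLE _ (V z) e₂ = g.appLE (U z) (V z) (hVU z) := by
    subst H₂
    rw [Scheme.Hom.app_eq_appLE, Scheme.Hom.appLE_comp_appLE]
  have key : h₁.appLE _ (V z) e₁ = h₂.appLE _ (V z) e₂ :=
    CommRingCat.hom_ext (ringHom_ext g hg (hU z) (hVU z) _ _
      (fun a => ConcreteCategory.congr_hom c₁ a) (fun a => ConcreteCategory.congr_hom c₂ a))
  have hV' : (V z).ι = (hV z).isoSpec.hom ≫ (hV z).fromSpec := by
    rw [IsAffineOpen.isoSpec_hom, IsAffineOpen.toSpecΓ_fromSpec]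
  rw [hV', Category.assoc, Category.assoc, ← hWaff.SpecMap_appLE_fromSpec h₁ (hV z) e₁,
    ← hWaff.SpecMap_appLE_fromSpec h₂ (hV z) e₂, key]

omit [QuasiCompact (X.fromSpecStalk (genericPoint X))]
  [QuasiSeparated (X.fromSpecStalk (genericPoint X))] in
theorem dense_openImmersion {Z' : Scheme.{u}} (j : Z' ⟶ Z) [IsOpenImmersion j]
    (hg : Dense (g.base ⁻¹' {genericPoint X})) : Dense ((j ≫ g).base ⁻¹' {genericPoint X}) :=
  hg.preimage j.isOpenEmbedding.isOpenMap

/-- A morphism from a normal scheme with dense generic fibre factors uniquely through the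
normalization. -/
theorem existsUnique_fac (hZ : Pi1.IsNormalScheme Z) (hg : Dense (g.base ⁻¹' {genericPoint X})) :
    ∃! h : Z ⟶ Curv2.normalization X, h ≫ Curv2.normalizationι X = g := by
  haveI := isReduced_of_normal hZ
  choose U V hU hV hzV hVU using exists_nbhd g
  haveI : ∀ z, Nonempty (U z) := fun z => ⟨⟨g z, hVU z (hzV z)⟩⟩
  choose ψ hψ using fun z => exists_ringHom g hZ hg (hU z) (hV z) (hVU z)
  let 𝒰 : Z.OpenCover := Z.openCoverOfIsOpenCover V
    (TopologicalSpace.IsOpenCover.mk (eq_top_iff.mpr fun z _ => Opens.mem_iSup.mpr ⟨z, hzV z⟩))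
  let h : ∀ z : Z, (V z).toScheme ⟶ Curv2.normalization X := fun z =>
    (hV z).isoSpec.hom ≫ Spec.map (ψ z) ≫ (isAffineOpen_preimage (hU z)).fromSpec
  have hh : ∀ z, h z ≫ Curv2.normalizationι X = (V z).ι ≫ g := by
    intro z
    simp only [h, Category.assoc]
    rw [← (hU z).SpecMap_appLE_fromSpec (Curv2.normalizationι X) (isAffineOpen_preimage (hU z)) le_rfl,
      ← Spec.map_comp_assoc, ← Scheme.Hom.app_eq_appLE, hψ z,
      (hU z).SpecMap_appLE_fromSpec g (hV z) (hVU z), ← Category.assoc]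
    congr 1
    rw [IsAffineOpen.isoSpec_hom, IsAffineOpen.toSpecΓ_fromSpec]
  have hcomp : ∀ x y, pullback.fst (𝒰.f x) (𝒰.f y) ≫ h x = pullback.snd _ _ ≫ h y := by
    intro x y
    haveI : IsReduced (pullback (𝒰.f x) (𝒰.f y)) :=
      isReduced_of_normal (normal_openImmersion (pullback.fst (𝒰.f x) (𝒰.f y) ≫ 𝒰.f x) hZ)
    refine ext_of_dense ((pullback.fst (𝒰.f x) (𝒰.f y) ≫ 𝒰.f x) ≫ g)
      (dense_openImmersion g _ hg) ?_ ?_
    · exact (Category.assoc _ _ _).trans ((congrArg (pullback.fst (𝒰.f x) (𝒰.f y) ≫ ·) (hh x)).trans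
        (Category.assoc _ _ _).symm)
    · exact (Category.assoc _ _ _).trans ((congrArg (pullback.snd (𝒰.f x) (𝒰.f y) ≫ ·) (hh y)).trans
        ((Category.assoc _ _ _).symm.trans (congrArg (· ≫ g) pullback.condition.symm)))
  refine ⟨𝒰.glueMorphisms h hcomp, ?_, fun h' hh' => ?_⟩
  · refine 𝒰.hom_ext _ _ fun z => ?_
    rw [Scheme.Cover.ι_glueMorphisms_assoc]
    exact hh z
  · refine ext_of_dense g hg hh' (𝒰.hom_ext _ _ fun z => ?_)
    rw [Scheme.Cover.ι_glueMorphisms_assoc]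
    exact hh z

end Groth.Agent.NormUniv
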